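import Cfsg.Agent.H33.RCSuz.Simple
import Cfsg.Agent.KFacts.SuzFix
import Cfsg.Agent.OddHalf.Table.OutSuz

/-!
# `C(σ)` in the Suzuki group: `Y = ⟨a, b, edcde, d, cdcdfg⟩` is simple of order at least 95040 (helper33)

* `simpleY`, `perfY`, `cardY`, `fixY`, `oddY` (the elements of odd prime order fixed by `σ` lie in `Y`).
-/

set_option autoImplicit false
set_option maxRecDepth 100000
set_option exponentiation.threshold 4000

namespace Cfsg.Agent.H33.RCSuz

open Subgroup Cfsg
open Cfsg.Spor (Suz)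
open Cfsg.Agent.Lib.PermNet Cfsg.Agent.Lib.PermNetOrbit Cfsg.Agent.SporadicRecognition.SuzPhi
  Cfsg.Agent.SporadicRecognition.SuzBound Cfsg.Agent.SporadicRecognition.SuzOrder
  Cfsg.Agent.SuzThree.Nets Cfsg.Agent.SuzThree.Basic Cfsg.Agent.SuzThree.Elts
  Cfsg.Agent.SuzThree.CentA Cfsg.Agent.SuzThree.CentB Cfsg.Agent.SuzThree.CentCard
  Cfsg.Agent.SuzThree.QZero Cfsg.Agent.KFacts.SuzRho Cfsg.Agent.KFacts.SuzFix

/-- the group `M₁₂` -/
noncomputable def Y : Subgroup Suz := closure SM

/-- its generators -/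
def gy : List (List Suz.Gen) := [[.a], [.b], kw, [.d], yw]

theorem Y_eq0 : Y = cl gy := rfl

theorem fixY : ∀ y ∈ Y, sigma y = y := by
  apply fix_closure
  rintro _ ⟨w, hw, rfl⟩
  rw [sigma_el]
  simp only [List.mem_cons, List.not_mem_nil, or_false] at hw
  rcases hw with rfl | rfl | rfl | rfl | rfl
  · exact eq_of_reps (Rep.el _) (Rep.el _) (by decide +kernel)
  · exact eq_of_reps (Rep.el _) (Rep.el _) (by decide +kernel)
  · exact eq_of_reps (Rep.el _) (Rep.el _) (by decide +kernel)
  · exact eq_of_reps (Rep.el _) (Rep.el _) (by decide +kernel)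
  · exact eq_of_reps (Rep.el _) (Rep.el _) (by decide +kernel)

theorem gy_mem {w : List Suz.Gen} (hw : w ∈ gy) : el w ∈ Y := by
  rw [Y_eq0]
  exact el_mem_cl hw

/-- generators of the stabiliser of `0` -/
def gz : List (List Suz.Gen) := [kw, [.b], yw.reverse ++ [.d] ++ yw]

theorem gz_mem {w : List Suz.Gen} (hw : w ∈ gz) : el w ∈ Y := by
  simp only [gz, List.mem_cons, List.not_mem_nil, or_false] at hw
  rcases hw with rfl | rfl | rfl
  · exact gy_mem (by simp [gy])
  · exact gy_mem (by simp [gy])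
  · rw [el_append, el_append, el_reverse]
    exact mul_mem (mul_mem (inv_mem (gy_mem (by simp [gy]))) (gy_mem (by simp [gy]))) (gy_mem (by simp [gy]))

theorem cardY_ge : 95040 ≤ Nat.card Y := by
  have h1 : 792 * Nat.card (stabL (φS Y) [0]) ≤ Nat.card (stabL (φS Y) []) :=
    stabL_step_of_check (φS Y) (k := 11) (ws := gy.map wd) [] 0 792 9 (wsokS _)
      (himgS fun w hw => gy_mem hw) (by decide +kernel) (by decide +kernel) (by decide +kernel)
  have h2 : 120 * Nat.card (stabL (φS Y) [44, 0]) ≤ Nat.card (stabL (φS Y) [0]) :=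
    stabL_step_of_check (φS Y) (k := 11) (ws := gz.map wd) [0] 44 120 7 (wsokS _)
      (himgS fun w hw => gz_mem hw) (by decide +kernel) (by decide +kernel) (by decide +kernel)
  rw [stabL_nil] at h1
  have h3 : 0 < Nat.card (stabL (φS Y) [44, 0]) := Nat.card_pos
  omega

/-! ### The group fixed by `σ` -/

/-- the fixed points of `σ` -/
def FS : Subgroup Suz where
  carrier := {g | sigma g = g}
  one_mem' := map_one _
  mul_mem' := fun {a b} ha hb => by
    show sigma (a * b) = a * b
    rw [map_mul, show sigma a = a from ha, show sigma b = b from hb]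
  inv_mem' := fun {a} ha => by
    show sigma a⁻¹ = a⁻¹
    rw [map_inv, show sigma a = a from ha]

theorem mem_FS {g : Suz} : g ∈ FS ↔ sigma g = g := Iff.rfl

theorem tau_iff (g : Suz) : g ∈ FS.map (MulAut.conj (el [.e, .d])⁻¹).toMonoidHom ↔ tau g = g := by
  have hs : ∀ x, sigma x = el [.e, .d] * tau ((el [.e, .d])⁻¹ * x * el [.e, .d]) * (el [.e, .d])⁻¹ := by
    intro x
    have h := congrArg (fun a : MulAut Suz => a x) KFacts.SuzInvol.sigma_eq
    have h2 : sigma x = MulAut.conj (el [.e, .d]) ((rho * MulAut.conj (PresentedGroup.of Suz.Gen.e) : MulAut Suz)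
        ((MulAut.conj (el [.e, .d]))⁻¹ x)) := h
    rw [h2, ← map_inv, MulAut.conj_apply, MulAut.conj_apply, inv_inv, ← el_one]
    rfl
  constructor
  · rintro ⟨x, hx, rfl⟩
    have hx' : sigma x = x := hx
    show tau (MulAut.conj (el [.e, .d])⁻¹ x) = MulAut.conj (el [.e, .d])⁻¹ x
    rw [MulAut.conj_apply, inv_inv]
    have h := hs x
    rw [hx'] at h
    conv_rhs => rw [h]
    group
  · intro h
    refine ⟨el [.e, .d] * g * (el [.e, .d])⁻¹, ?_, ?_⟩
    · show sigma _ = _
      rw [hs]
      have e : (el [.e, .d])⁻¹ * (el [.e, .d] * g * (el [.e, .d])⁻¹) * el [.e, .d] = g := by group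
      rw [e, h]
    · show MulAut.conj (el [.e, .d])⁻¹ _ = _
      rw [MulAut.conj_apply]
      group

theorem card_FS : Nat.card FS = 190080 := by
  rw [← card_tau tau_iff]
  exact Nat.card_congr (FS.equivMapOfInjective _ (MulAut.conj (el [.e, .d])⁻¹).injective).toEquiv

theorem Y_le : Y ≤ FS := fun y hy => fixY y hy

theorem cardY : Nat.card Y = 95040 ∨ Nat.card Y = 190080 := by
  have h1 := cardY_ge
  obtain ⟨k, hk⟩ := card_dvd_of_le Y_le
  rw [card_FS] at hk
  have h2 : k ≤ 2 := by
    by_contra h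
    push Not at h
    have := Nat.mul_le_mul h1 h
    omega
  interval_cases k
  · omega
  · right; omega
  · left; omega

theorem oddY (y : Suz) (hy : sigma y = y) (p : ℕ) (hp : p.Prime) (hp2 : p ≠ 2) (hyp : y ^ p = 1) : y ∈ Y := by
  have hfin : Finite Suz := inferInstance
  -- the index is at most 2
  have hsq : y * y ∈ Y := by
    have hyF : y ∈ FS := hy
    rcases cardY with h | h
    · have h1 : (Y.subgroupOf FS).index = 2 := by
        have h2 := (Y.subgroupOf FS).card_mul_index
        rw [Nat.card_congr (subgroupOfEquivOfLe Y_le).toEquiv, h, card_FS] at h2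
        omega
      have h3 := mul_self_mem_of_index_two h1 (⟨y, hyF⟩ : FS)
      exact h3
    · have h1 : Y = FS := eq_of_le_of_card_ge Y_le (by rw [h, card_FS])
      rw [h1]
      exact mul_mem hyF hyF
  obtain ⟨k, hk⟩ := hp.odd_of_ne_two hp2
  have h5 : y = (y * y) ^ (k + 1) := by
    rw [← pow_two, ← pow_mul, mul_add, mul_one, show 2 * k + 2 = (2 * k + 1) + 1 by ring, ← hk, pow_succ, hyp, one_mul]
  rw [h5]
  exact pow_mem hsq _

theorem perfY : commutator Y = ⊤ := by
  have h := perfect_SM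
  have h1 : (commutator Y).map Y.subtype = Y := by
    rw [commutator_def, map_commutator, ← MonoidHom.range_eq_map, range_subtype]
    exact h
  rw [eq_top_iff]
  intro x _
  have h2 : (x : Suz) ∈ (commutator Y).map Y.subtype := by rw [h1]; exact x.2
  obtain ⟨y, hy, hyx⟩ := h2
  rwa [← Subtype.ext hyx]

theorem cent11 {u : Suz} (hu : orderOf u = 11) : ∀ c, c * u = u * c → c ∈ zpowers u := by
  have hfin : Finite Suz := inferInstance
  refine cent_conj (x := OddHalf.Table.SuzRep.x) (by norm_num) (by rw [card_Suz]; norm_num) OddHalf.Table.OutSuz.order_x hu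
    fun c hc => ?_
  obtain ⟨i, hi⟩ := OddHalf.Table.OutSuz.cent_x c hc
  rw [hi]
  exact pow_mem (mem_zpowers _) i

theorem simpleY : IsSimpleGroup Y := by
  have hfin : Finite Suz := inferInstance
  have h11 : Fact (Nat.Prime 11) := ⟨by norm_num⟩
  have hdv : Nat.card Y ∣ 190080 := by rw [← card_FS]; exact card_dvd_of_le Y_le
  obtain ⟨u, hu⟩ := exists_prime_orderOf_dvd_card' (G := Y) 11 (by rcases cardY with h | h <;> rw [h] <;> norm_num)
  have hu' : orderOf (u : Suz) = 11 := by rw [orderOf_coe]; exact hu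
  have hnt : Nontrivial Y := by
    rw [← Finite.one_lt_card_iff_nontrivial]
    have := cardY_ge
    omega
  have hc : ∀ c : Y, c * u = u * c → c ∈ zpowers u := by
    intro c h
    obtain ⟨k, hk⟩ := mem_zpowers_iff.1 (cent11 hu' (c : Suz) (congrArg Subtype.val h))
    exact mem_zpowers_iff.2 ⟨k, Subtype.ext hk⟩
  refine ⟨fun K hK => ?_⟩
  by_cases hKt : K = ⊤
  · exact Or.inr hKt
  left
  by_contra hKb
  have hK1 : Nat.card K ≠ 1 := fun h => hKb (card_eq_one.1 h)
  obtain ⟨q, hq, hqK⟩ := Nat.exists_prime_and_dvd hK1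
  obtain ⟨a, ha, h1, h2⟩ := exists_mod (by norm_num : Nat.Prime 11) hu hc (by
    intro h
    have := h.trans hdv
    norm_num at this) perfY K hKt hq hqK
  have h1 := h1.trans hdv
  have h3 : q ∣ 2 ^ 7 * 3 ^ 3 * 5 * 11 := by
    have : (190080 : ℕ) = 2 ^ 7 * 3 ^ 3 * 5 * 11 := by norm_num
    rw [← this]
    exact (dvd_pow_self q ha.ne').trans h1
  have h4 : q = 2 ∨ q = 3 ∨ q = 5 ∨ q = 11 := by
    rcases (hq.dvd_mul).1 h3 with h | h
    · rcases (hq.dvd_mul).1 h with h | h
      · rcases (hq.dvd_mul).1 h with h | h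
        · exact Or.inl ((Nat.prime_dvd_prime_iff_eq hq Nat.prime_two).1 (hq.dvd_of_dvd_pow h))
        · exact Or.inr (Or.inl ((Nat.prime_dvd_prime_iff_eq hq Nat.prime_three).1 (hq.dvd_of_dvd_pow h)))
      · exact Or.inr (Or.inr (Or.inl ((Nat.prime_dvd_prime_iff_eq hq Nat.prime_five).1 h)))
    · exact Or.inr (Or.inr (Or.inr ((Nat.prime_dvd_prime_iff_eq hq (by norm_num)).1 h)))
  have h5 : a < 8 := by
    by_contra h
    push Not at h
    have h6 := (pow_dvd_pow q h).trans h1
    rcases h4 with rfl | rfl | rfl | rfl <;> norm_num at h6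
  rcases h4 with rfl | rfl | rfl | rfl <;> interval_cases a <;> revert h1 h2 <;> decide

end Cfsg.Agent.H33.RCSuz
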