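import Cfsg.Agent.H873.RG.Defs
import Cfsg.Agent.H867.RC.Spor

/-!
# Covers with an outer involution (helper33)

`Fct al` for an automorphism `al` of `S`: there is a simple subgroup `Y` (nonabelian, not alternating) fixed by `al` which
contains the elements of odd prime order fixed by `al`, and `z ∈ Y`, `z = c · al(c)⁻¹` with `c` commuting with `z`.

* `outer_rule` : no cover by commuting elements of different prime orders contains an element inducing `al`.
-/

set_option autoImplicit false
open Cfsg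

namespace Cfsg.Agent.H33.RCSuz

open MulAction Subgroup Cfsg.Agent.H106.RC Cfsg.Agent.H873.RG Cfsg.Agent.H867.RC
open scoped commutatorElement

/-- the facts on an outer involutory automorphism -/
def Fct {S : Type} [Group S] (al : MulAut S) : Prop :=
  ∃ (Y : Subgroup S) (z c : S), IsSimpleGroup Y ∧ ¬ IsMulCommutative Y ∧ ¬ IsAlternating Y ∧ Y ≠ ⊤ ∧
    (∀ y ∈ Y, al y = y) ∧ (∀ y, al y = y → ∀ p : ℕ, p.Prime → p ≠ 2 → y ^ p = 1 → y ∈ Y) ∧
    z ≠ 1 ∧ z ∈ Y ∧ c * z = z * c ∧ c * (al c)⁻¹ = z

theorem isAlt_congr {A B : Type*} [Group A] [Group B] (e : A ≃* B) (h : IsAlternating B) : IsAlternating A := by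
  obtain ⟨n, hn, ⟨f⟩⟩ := h
  exact ⟨n, hn, ⟨e.trans f⟩⟩

theorem comm_congr {A B : Type*} [Group A] [Group B] (e : A ≃* B) (h : IsMulCommutative B) : IsMulCommutative A := by
  constructor
  constructor
  intro a b
  apply e.injective
  rw [map_mul, map_mul]
  exact h.is_comm.comm _ _

theorem nsa_congr {A B : Type} [Group A] [Group B] (e : A ≃* B) (h : NSA A) : NSA B :=
  ⟨isSimple_cgr0 e h.simple, fun hc => h.ncomm (comm_congr e hc), fun ha => h.nalt (isAlt_congr e ha)⟩

theorem Fct.conj {S : Type} [Group S] {al : MulAut S} (h : Fct al) (g : S) :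
    Fct (MulAut.conj g * al * (MulAut.conj g)⁻¹) := by
  obtain ⟨Y, z, c, h1, h2, h3, h4, h5, h6, h7, h8, h9, h10⟩ := h
  have hap : ∀ t, (MulAut.conj g * al * (MulAut.conj g)⁻¹) t = g * al (g⁻¹ * t * g) * g⁻¹ := by
    intro t
    rw [← map_inv, MulAut.mul_apply, MulAut.mul_apply, MulAut.conj_apply, MulAut.conj_apply, inv_inv]
  have e : Y ≃* Y.map (MulAut.conj g).toMonoidHom := Y.equivMapOfInjective _ (MulAut.conj g).injective
  refine ⟨Y.map (MulAut.conj g).toMonoidHom, g * z * g⁻¹, g * c * g⁻¹, isSimple_cgr0 e h1,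
    fun hc => h2 (comm_congr e hc), fun ha => h3 (isAlt_congr e ha), ?_, ?_, ?_, ?_, ?_, ?_, ?_⟩
  · intro ht
    apply h4
    rw [eq_top_iff]
    intro t _
    have h11 : g * t * g⁻¹ ∈ Y.map (MulAut.conj g).toMonoidHom := by rw [ht]; trivial
    obtain ⟨y, hy, hyt⟩ := h11
    have h12 : g * y * g⁻¹ = g * t * g⁻¹ := hyt
    rwa [← mul_left_cancel (mul_right_cancel h12)]
  · rintro _ ⟨y, hy, rfl⟩
    rw [hap]
    have h11 : g⁻¹ * ((MulAut.conj g).toMonoidHom y) * g = y := by
      show g⁻¹ * (g * y * g⁻¹) * g = y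
      group
    rw [h11, h5 y hy]
    rfl
  · intro y hy p hp hp2 hyp
    rw [hap] at hy
    refine ⟨g⁻¹ * y * g, h6 _ ?_ p hp hp2 ?_, ?_⟩
    · calc al (g⁻¹ * y * g) = g⁻¹ * (g * al (g⁻¹ * y * g) * g⁻¹) * g := by group
        _ = g⁻¹ * y * g := by rw [hy]
    · have h11 : g⁻¹ * y * g = g⁻¹ * y * g⁻¹⁻¹ := by rw [inv_inv]
      rw [h11, conj_pow, hyp]
      group
    · show g * (g⁻¹ * y * g) * g⁻¹ = y
      group
  · intro h
    apply h7
    calc z = g⁻¹ * (g * z * g⁻¹) * g := by group
      _ = 1 := by rw [h]; group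
  · exact ⟨z, h8, rfl⟩
  · calc g * c * g⁻¹ * (g * z * g⁻¹) = g * (c * z) * g⁻¹ := by group
      _ = g * z * g⁻¹ * (g * c * g⁻¹) := by rw [h9]; group
  · rw [hap]
    have h11 : g⁻¹ * (g * c * g⁻¹) * g = c := by group
    rw [h11]
    calc g * c * g⁻¹ * (g * al c * g⁻¹)⁻¹ = g * (c * (al c)⁻¹) * g⁻¹ := by group
      _ = g * z * g⁻¹ := by rw [h10]

variable {G : Type} [Group G] [Finite G] {Ω : Type} [Nonempty Ω] [MulAction G Ω] {N : Subgroup G}
  {S : Type} [Group S] [Finite S] {ι : Type} [Finite ι] {x : ι → G} {r : ι → ℕ}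

/-- **the outer rule** -/
theorem outer_rule (hE : Env G Ω N) (e : N ≃* S) (hIH : IHx (Nat.card S)) (hx : PF x r) (hc : Cov Ω x) {i : ι}
    (hr : r i = 2) (hN : ∀ j, j ≠ i → x j ∈ N) {al : MulAut S}
    (hal : ∀ s : S, x i * (e.symm s : G) * (x i)⁻¹ = (e.symm (al s) : G)) (F : Fct al) : False := by
  obtain ⟨Y, z, c, h1, h2, h3, h4, h5, h6, h7, h8, h9, h10⟩ := F
  let f : S →* G := N.subtype.comp e.symm.toMonoidHom
  have hf : ∀ s, f s = (e.symm s : G) := fun s => rfl
  have hfi : Function.Injective f := N.subtype_injective.comp e.symm.injective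
  let M : Subgroup G := Y.map f
  have hMN : M ≤ N := by
    rintro _ ⟨y, -, rfl⟩
    exact (e.symm y).2
  have hne : M ≠ N := by
    intro h
    apply h4
    rw [eq_top_iff]
    intro s _
    have h11 : f s ∈ M := by rw [h]; exact (e.symm s).2
    obtain ⟨y, hy, hys⟩ := h11
    rwa [← hfi hys]
  have eM : Y ≃* M := Y.equivMapOfInjective f hfi
  have hNSA : NSA M := nsa_congr eM ⟨h1, h2, h3⟩
  have hsM := hNSA.simple
  -- the commutator subgroup of `M`
  have hperf : ⁅M, M⁆ = M := by
    have h11 : commutator M = ⊤ := by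
      rcases hsM.eq_bot_or_eq_top_of_normal (commutator M) inferInstance with h | h
      · exfalso
        apply hNSA.ncomm
        constructor
        constructor
        intro a b
        have h12 : ⁅a, b⁆ ∈ commutator M := commutator_mem_commutator (mem_top a) (mem_top b)
        rw [h, mem_bot, commutatorElement_eq_one_iff_mul_comm] at h12
        exact h12
      · exact h
    have h12 := congrArg (Subgroup.map M.subtype) h11
    rw [_root_.commutator_def, map_commutator, ← MonoidHom.range_eq_map, range_subtype] at h12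
    exact h12
  have hcent : ∀ m ∈ M, x i * m = m * x i := by
    rintro _ ⟨y, hy, rfl⟩
    have h11 := hal y
    rw [h5 y hy] at h11
    exact mul_inv_eq_iff_eq_mul.1 h11
  have hodd : ∀ j, j ≠ i → x j ∈ M := by
    intro j hj
    have hjN := hN j hj
    have h11 : f (e ⟨x j, hjN⟩) = x j := by
      rw [hf, e.symm_apply_apply]
    refine ⟨e ⟨x j, hjN⟩, h6 _ ?_ (r j) (hx.prime j) ?_ ?_, h11⟩
    · apply hfi
      rw [hf (al _), ← hal, ← hf, h11, hx.comm i j, mul_inv_cancel_right]
    · intro h
      exact hj (hx.inj (h.trans hr.symm))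
    · rw [← map_pow]
      have h12 : (⟨x j, hjN⟩ : N) ^ r j = 1 := Subtype.ext (hx.pow j)
      rw [h12, map_one]
  have hnorm : ∀ j, x j ∈ normalizer (M : Set G) := by
    intro j
    by_cases hj : j = i
    · rw [hj, mem_normalizer_iff]
      intro m
      constructor
      · intro hm
        rw [hcent m hm, mul_inv_cancel_right]
        exact hm
      · intro hm
        have h11 := hcent _ hm
        have h12 : m = x i * m * (x i)⁻¹ := by
          have h13 : x i * m * (x i)⁻¹ * x i = x i * m := by group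
          rw [← h11] at h13
          exact (mul_left_cancel h13).symm
        rw [h12]
        exact hm
    · exact le_normalizer (hodd j hj)
  have key : ∀ ω : Ω, f z • ω = ω ∨ x i • ω = ω := by
    intro ω
    rcases mrule_IHx (S' := M) hIH e hMN hne hperf (MonoidHom.id M) Function.surjective_id
      (by rw [MonoidHom.ker_id]; exact bot_le) hNSA hx hc hnorm ω with h | ⟨j, hj, hjω⟩
    · exact Or.inl (h ⟨z, h8, rfl⟩)
    · right
      by_cases hji : j = i
      · rw [← hji]; exact hjω
      exfalso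
      have hjM := hodd j hji
      have h11 : (⟨x j, hjM⟩ : M) ∈ center M := by
        rw [mem_center_iff]
        intro m
        exact Subtype.ext (hj m m.2).symm
      rcases hsM.eq_bot_or_eq_top_of_normal (center M) inferInstance with h | h
      · rw [h, mem_bot] at h11
        exact hx.ne j (congrArg Subtype.val h11)
      · apply hNSA.ncomm
        constructor
        constructor
        intro a b
        exact (mem_center_iff.1 (h ▸ mem_top b : b ∈ center M) a)
  refine rulePair hE (x := f z) (y := x i) (fun h => h7 (hfi (h.trans (map_one f).symm))) key ?_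
  have h11 : f z = (f c * x i * (f c)⁻¹) * (1 * x i * (1 : G)⁻¹)⁻¹ := by
    conv_lhs => rw [← h10, map_mul, map_inv, hf (al c), ← hal c, ← hf]
    group
  rw [h11]
  refine mul_mem (subset_closure ⟨f c, ?_, rfl⟩) (inv_mem (subset_closure ⟨1, ?_, rfl⟩))
  · rw [← h11, ← map_mul, ← map_mul, h9]
  · rw [one_mul, mul_one]

end Cfsg.Agent.H33.RCSuz
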