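import Mathlib
import Cfsg.Prelude.Def_Classical

/-!
# Simplicity from a self-centralizing element of prime order (helper33)

`M` perfect, `u` of prime order `p` with `C(u) = ⟨u⟩`, `p² ∤ |M|`: a normal subgroup `K ≠ M` has order prime to `p`
and all its Sylow subgroups have orders `≡ 1` modulo `p`.
-/

set_option autoImplicit false

namespace Cfsg.Agent.H33.RCSuz

open Subgroup
open scoped commutatorElement

/-- self-centralizing elements of order `p` are conjugate up to powers -/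
theorem cent_conj {G : Type*} [Group G] [Finite G] {p : ℕ} (hp : p.Prime) (hp2 : ¬ p ^ 2 ∣ Nat.card G) {x u : G}
    (hx : orderOf x = p) (hu : orderOf u = p) (hc : ∀ c, c * x = x * c → c ∈ zpowers x) :
    ∀ c, c * u = u * c → c ∈ zpowers u := by
  have := Fact.mk hp
  have hsyl : ∀ v : G, orderOf v = p → ∃ S : Sylow p G, (S : Subgroup G) = zpowers v := by
    intro v hv
    have h1 : IsPGroup p (zpowers v) := IsPGroup.of_card (n := 1) (by rw [Nat.card_zpowers, hv, pow_one])
    obtain ⟨S, hS⟩ := h1.exists_le_sylow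
    refine ⟨S, (eq_of_le_of_card_ge hS ?_).symm⟩
    obtain ⟨n, hn⟩ := (IsPGroup.iff_card).1 S.2
    rw [Nat.card_zpowers, hv, hn]
    have h2 : n ≤ 1 := by
      by_contra h
      push Not at h
      exact hp2 ((pow_dvd_pow p h).trans (hn ▸ card_subgroup_dvd_card (S : Subgroup G)))
    calc p ^ n ≤ p ^ 1 := Nat.pow_le_pow_right hp.one_lt.le h2
      _ = p := pow_one p
  obtain ⟨S, hS⟩ := hsyl x hx
  obtain ⟨T, hT⟩ := hsyl u hu
  obtain ⟨g, hg⟩ := MulAction.exists_smul_eq G S T
  have h1 : ∀ y, y ∈ zpowers u ↔ g⁻¹ * y * g ∈ zpowers x := by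
    intro y
    rw [← hT, ← hg, ← hS, Sylow.coe_subgroup_smul, mem_smul_pointwise_iff_exists]
    constructor
    · rintro ⟨s, hs, rfl⟩
      have : g⁻¹ * (MulAut.conj g • s) * g = s := by
        show g⁻¹ * (g * s * g⁻¹) * g = s
        group
      rw [this]; exact hs
    · intro h
      refine ⟨_, h, ?_⟩
      show g * (g⁻¹ * y * g) * g⁻¹ = y
      group
  intro c hcc
  rw [h1]
  apply hc
  have h2 : g⁻¹ * u * g ∈ zpowers x := (h1 _).1 (mem_zpowers _)
  have h3 : zpowers (g⁻¹ * u * g) = zpowers x := by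
    apply eq_of_le_of_card_ge (zpowers_le.2 h2)
    rw [Nat.card_zpowers, Nat.card_zpowers, hx]
    have h4 : orderOf (g⁻¹ * u * g) = p := by
      have : g⁻¹ * u * g = MulAut.conj g⁻¹ u := by simp
      rw [this, MulEquiv.orderOf_eq, hu]
    exact h4.ge
  have h5 : x ∈ zpowers (g⁻¹ * u * g) := by rw [h3]; exact mem_zpowers x
  obtain ⟨k, hk⟩ := mem_zpowers_iff.1 h5
  have h6 : Commute (g⁻¹ * c * g) (g⁻¹ * u * g) := by
    show g⁻¹ * c * g * (g⁻¹ * u * g) = g⁻¹ * u * g * (g⁻¹ * c * g)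
    calc g⁻¹ * c * g * (g⁻¹ * u * g) = g⁻¹ * (c * u) * g := by group
      _ = g⁻¹ * (u * c) * g := by rw [hcc]
      _ = g⁻¹ * u * g * (g⁻¹ * c * g) := by group
  have h7 := h6.zpow_right k
  rw [hk] at h7
  exact h7.eq

section

variable {M : Type*} [Group M] [Finite M] {p : ℕ} {u : M}

/-- `M / K` is abelian if `u ∈ K` -/
theorem comm_le (hp : p.Prime) (hu : orderOf u = p) (hc : ∀ c, c * u = u * c → c ∈ zpowers u)
    (hp2 : ¬ p ^ 2 ∣ Nat.card M) (K : Subgroup M) [hK : K.Normal] (hpK : p ∣ Nat.card K) : commutator M ≤ K := by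
  have := Fact.mk hp
  -- Sylow subgroups
  have hsyl : ∀ v : M, orderOf v = p → ∃ S : Sylow p M, (S : Subgroup M) = zpowers v := by
    intro v hv
    have h1 : IsPGroup p (zpowers v) := IsPGroup.of_card (n := 1) (by rw [Nat.card_zpowers, hv, pow_one])
    obtain ⟨S, hS⟩ := h1.exists_le_sylow
    refine ⟨S, (eq_of_le_of_card_ge hS ?_).symm⟩
    obtain ⟨n, hn⟩ := (IsPGroup.iff_card).1 S.2
    rw [Nat.card_zpowers, hv, hn]
    have h2 : n ≤ 1 := by
      by_contra h
      push Not at h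
      exact hp2 ((pow_dvd_pow p h).trans (hn ▸ card_subgroup_dvd_card (S : Subgroup M)))
    calc p ^ n ≤ p ^ 1 := Nat.pow_le_pow_right hp.one_lt.le h2
      _ = p := pow_one p
  obtain ⟨v, hv⟩ := exists_prime_orderOf_dvd_card' p hpK
  have hv' : orderOf (v : M) = p := by rw [orderOf_coe]; exact hv
  obtain ⟨S, hS⟩ := hsyl u hu
  obtain ⟨T, hT⟩ := hsyl v hv'
  have hTK : (T : Subgroup M) ≤ K := by rw [hT, zpowers_le]; exact v.2
  -- all Sylow subgroups lie in `K`
  have hall : ∀ R : Sylow p M, (R : Subgroup M) ≤ K := by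
    intro R
    obtain ⟨g, hg⟩ := MulAction.exists_smul_eq M T R
    rw [← hg]
    intro x hx
    rw [Sylow.coe_subgroup_smul, mem_smul_pointwise_iff_exists] at hx
    obtain ⟨y, hy, rfl⟩ := hx
    exact hK.conj_mem y (hTK hy) g
  have hSK := hall S
  -- Frattini
  have hfr : ∀ m : M, ∃ k ∈ K, k * m ∈ normalizer ((zpowers u : Subgroup M) : Set M) := by
    intro m
    let S1 : Sylow p K := S.subtype hSK
    let S2 : Sylow p K := (m • S).subtype (hall _)
    obtain ⟨k, hk⟩ := MulAction.exists_smul_eq K S2 S1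
    refine ⟨k, k.2, ?_⟩
    have h1 : ((k : M) * m) • S = S := by
      rw [mul_smul]
      apply Sylow.ext
      have h2 := congrArg (fun R : Sylow p K => (R : Subgroup K).map K.subtype) hk
      simp only [S1, S2, Sylow.coe_subtype] at h2
      have h3 : ((k • S2 : Sylow p K) : Subgroup K).map K.subtype = (((k : M) • (m • S) : Sylow p M) : Subgroup M) := by
        ext x
        constructor
        · rintro ⟨y, hy, rfl⟩
          rw [Sylow.coe_subgroup_smul] at hy
          rw [SetLike.mem_coe, mem_smul_pointwise_iff_exists] at hy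
          obtain ⟨z, hz, rfl⟩ := hy
          rw [Sylow.coe_subgroup_smul, mem_smul_pointwise_iff_exists]
          exact ⟨z, hz, rfl⟩
        · intro hx
          rw [Sylow.coe_subgroup_smul, mem_smul_pointwise_iff_exists] at hx
          obtain ⟨z, hz, rfl⟩ := hx
          refine ⟨k * ⟨z, hall _ hz⟩ * k⁻¹, ?_, rfl⟩
          rw [Sylow.coe_subgroup_smul, SetLike.mem_coe, mem_smul_pointwise_iff_exists]
          exact ⟨⟨z, hall _ hz⟩, hz, rfl⟩
      rw [← h3, hk]
      show ((S.subtype hSK : Sylow p K) : Subgroup K).map K.subtype = S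
      rw [Sylow.coe_subtype, subgroupOf_map_subtype]
      exact inf_eq_left.2 hSK
    rw [← hS]
    exact Sylow.smul_eq_iff_mem_normalizer.1 h1
  -- the powers
  have hpow : ∀ n ∈ normalizer ((zpowers u : Subgroup M) : Set M), ∃ a : ℤ, n * u * n⁻¹ = u ^ a := by
    intro n hn
    obtain ⟨a, ha⟩ := mem_zpowers_iff.1 ((mem_normalizer_iff.1 hn u).1 (mem_zpowers u))
    exact ⟨a, ha.symm⟩
  have hcom : ∀ n ∈ normalizer ((zpowers u : Subgroup M) : Set M), ∀ n' ∈ normalizer ((zpowers u : Subgroup M) : Set M),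
      n * n' * n⁻¹ * n'⁻¹ ∈ K := by
    intro n hn n' hn'
    obtain ⟨a, ha⟩ := hpow n hn
    obtain ⟨b, hb⟩ := hpow n' hn'
    have h1 : n * n' * u * (n * n')⁻¹ = u ^ (a * b) := by
      calc n * n' * u * (n * n')⁻¹ = n * (n' * u * n'⁻¹) * n⁻¹ := by group
        _ = n * u ^ b * n⁻¹ := by rw [hb]
        _ = (n * u * n⁻¹) ^ b := by rw [conj_zpow]
        _ = u ^ (a * b) := by rw [ha, zpow_mul]
    have h2 : n' * n * u * (n' * n)⁻¹ = u ^ (a * b) := by
      calc n' * n * u * (n' * n)⁻¹ = n' * (n * u * n⁻¹) * n'⁻¹ := by group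
        _ = n' * u ^ a * n'⁻¹ := by rw [ha]
        _ = (n' * u * n'⁻¹) ^ a := by rw [conj_zpow]
        _ = u ^ (a * b) := by rw [hb, ← zpow_mul, mul_comm]
    have h3 : (n' * n)⁻¹ * (n * n') * u = u * ((n' * n)⁻¹ * (n * n')) := by
      have h4 : n * n' * u * (n * n')⁻¹ = n' * n * u * (n' * n)⁻¹ := by rw [h1, h2]
      calc (n' * n)⁻¹ * (n * n') * u = (n' * n)⁻¹ * (n * n' * u * (n * n')⁻¹) * (n * n') := by group
        _ = (n' * n)⁻¹ * (n' * n * u * (n' * n)⁻¹) * (n * n') := by rw [h4]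
        _ = u * ((n' * n)⁻¹ * (n * n')) := by group
    have h5 : (n' * n)⁻¹ * (n * n') ∈ K := by
      apply hSK
      rw [hS]
      exact hc _ h3
    have h6 := hK.conj_mem _ h5 (n' * n)
    have h7 : n' * n * ((n' * n)⁻¹ * (n * n')) * (n' * n)⁻¹ = n * n' * n⁻¹ * n'⁻¹ := by group
    rwa [h7] at h6
  rw [commutator_def, commutator_le]
  intro m _ m' _
  obtain ⟨k, hk, hn⟩ := hfr m
  obtain ⟨k', hk', hn'⟩ := hfr m'
  have h1 := hcom _ hn _ hn'
  have e1 : QuotientGroup.mk' K k = 1 := (QuotientGroup.eq_one_iff k).2 hk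
  have e2 : QuotientGroup.mk' K k' = 1 := (QuotientGroup.eq_one_iff k').2 hk'
  have e3 : QuotientGroup.mk' K (k * m * (k' * m') * (k * m)⁻¹ * (k' * m')⁻¹) = 1 := (QuotientGroup.eq_one_iff _).2 h1
  simp only [map_mul, map_inv, e1, e2, one_mul] at e3
  apply (QuotientGroup.eq_one_iff _).1
  show QuotientGroup.mk' K (⁅m, m'⁆) = 1
  rw [commutatorElement_def]
  simp only [map_mul, map_inv]
  exact e3

/-- Sylow subgroups of a normal subgroup of order prime to `p` -/
theorem syl_mod (hp : p.Prime) (hu : orderOf u = p) (hc : ∀ c, c * u = u * c → c ∈ zpowers u)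
    (hp2 : ¬ p ^ 2 ∣ Nat.card M) (K : Subgroup M) [hK : K.Normal] (hpK : ¬ p ∣ Nat.card K) {q : ℕ} [hq : Fact q.Prime]
    (Q : Sylow q K) : Nat.card Q ≡ 1 [MOD p] := by
  have := Fact.mk hp
  set R : Subgroup M := (Q : Subgroup K).map K.subtype with hR
  have hRK : R ≤ K := by rintro _ ⟨x, -, rfl⟩; exact x.2
  have hRc : Nat.card R = Nat.card Q := by
    rw [hR]
    exact Nat.card_congr ((Q : Subgroup K).equivMapOfInjective _ K.subtype_injective).toEquiv.symm
  have hfr : normalizer (R : Set M) ⊔ K = ⊤ := Sylow.normalizer_sup_eq_top Q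
  have hpM : p ∣ Nat.card M := hu ▸ orderOf_dvd_natCard u
  -- `p` divides the order of the normalizer
  have hpN : p ∣ Nat.card (normalizer (R : Set M)) := by
    have h2 : K.relIndex (normalizer (R : Set M)) = K.index := by
      rw [← relIndex_sup_left, sup_comm, hfr, relIndex_top_right]
    have h3 : K.relIndex (normalizer (R : Set M)) ∣ Nat.card (normalizer (R : Set M)) := relIndex_dvd_card _ _
    rw [h2] at h3
    have h4 := K.card_mul_index
    rw [← h4] at hpM
    exact ((hp.dvd_mul.1 hpM).resolve_left hpK).trans h3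
  obtain ⟨v, hv⟩ := exists_prime_orderOf_dvd_card' p hpN
  have hv' : orderOf (v : M) = p := by rw [orderOf_coe]; exact hv
  -- `v` is conjugate to a power of `u`
  have hcv : ∀ c, c * (v : M) = v * c → c ∈ zpowers (v : M) := cent_conj hp hp2 hu hv' hc
  -- the action on `R`
  have hvN : (v : M) ∈ normalizer (R : Set M) := v.2
  have hvR : ∀ x ∈ R, (v : M) * x * (v : M)⁻¹ ∈ R := fun x hx => (mem_normalizer_iff.1 hvN x).1 hx
  have hpow : ∀ (z : zpowers (v : M)) (x : M), x ∈ R → (z : M) * x * (z : M)⁻¹ ∈ R := by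
    intro z x hx
    have hz : (z : M) ∈ normalizer (R : Set M) := (zpowers_le.2 hvN) z.2
    exact (mem_normalizer_iff.1 hz x).1 hx
  let act : MulAction (zpowers (v : M)) R :=
    { smul := fun z x => ⟨(z : M) * x * (z : M)⁻¹, hpow z x x.2⟩
      one_smul := fun x => Subtype.ext (by show ((1 : zpowers (v : M)) : M) * x * _ = _; simp)
      mul_smul := fun a b x => Subtype.ext (by
        show ((a * b : zpowers (v : M)) : M) * x * ((a * b : zpowers (v : M)) : M)⁻¹ = a * (b * x * (b : M)⁻¹) * (a : M)⁻¹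
        push_cast; group) }
  have hG : IsPGroup p (zpowers (v : M)) := IsPGroup.of_card (n := 1) (by rw [Nat.card_zpowers, hv', pow_one])
  have h1 := hG.card_modEq_card_fixedPoints (α := R)
  rw [hRc] at h1
  refine h1.trans ?_
  have h2 : Nat.card (MulAction.fixedPoints (zpowers (v : M)) R) = 1 := by
    rw [Nat.card_eq_one_iff_unique]
    refine ⟨⟨?_⟩, ⟨⟨1, fun z => ?_⟩⟩⟩
    · have key : ∀ a : MulAction.fixedPoints (zpowers (v : M)) R, ((a : R) : M) = 1 := by
        intro a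
        have h3 := congrArg Subtype.val (a.2 ⟨v, mem_zpowers _⟩)
        change (v : M) * ((a : R) : M) * (v : M)⁻¹ = ((a : R) : M) at h3
        have h4 : ((a : R) : M) * v = v * ((a : R) : M) := (mul_inv_eq_iff_eq_mul.1 h3).symm
        have h5 := hcv _ h4
        have h6 : orderOf ((a : R) : M) ∣ p := by
          rw [← hv', ← Nat.card_zpowers (v : M), ← Nat.card_zpowers ((a : R) : M)]
          exact card_dvd_of_le (zpowers_le.2 h5)
        have h7 : orderOf ((a : R) : M) ∣ Nat.card K := by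
          have : orderOf (⟨((a : R) : M), hRK (a : R).2⟩ : K) ∣ Nat.card K := orderOf_dvd_natCard _
          rwa [← orderOf_coe] at this
        rcases (Nat.dvd_prime hp).1 h6 with h | h
        · exact orderOf_eq_one_iff.1 h
        · exact absurd (h ▸ h7) hpK
      intro a b
      exact Subtype.ext (Subtype.ext ((key a).trans (key b).symm))
    · apply Subtype.ext
      show (z : M) * ((1 : R) : M) * (z : M)⁻¹ = ((1 : R) : M)
      simp
  rw [h2]

/-- the prime divisors of the order of a proper normal subgroup -/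
theorem exists_mod (hp : p.Prime) (hu : orderOf u = p) (hc : ∀ c, c * u = u * c → c ∈ zpowers u)
    (hp2 : ¬ p ^ 2 ∣ Nat.card M) (hperf : commutator M = ⊤) (K : Subgroup M) [K.Normal] (hK : K ≠ ⊤) {q : ℕ}
    (hq : q.Prime) (hqK : q ∣ Nat.card K) : ∃ a, 0 < a ∧ q ^ a ∣ Nat.card M ∧ q ^ a ≡ 1 [MOD p] := by
  have := Fact.mk hq
  by_cases hpK : p ∣ Nat.card K
  · exact absurd (eq_top_iff.2 (hperf ▸ comm_le hp hu hc hp2 K hpK)) hK
  obtain ⟨Q⟩ : Nonempty (Sylow q K) := inferInstance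
  refine ⟨(Nat.card K).factorization q, hq.factorization_pos_of_dvd Nat.card_pos.ne' hqK,
    (Nat.ordProj_dvd _ _).trans (card_subgroup_dvd_card K), ?_⟩
  rw [← Q.card_eq_multiplicity]
  exact syl_mod hp hu hc hp2 K hpK Q

end

/-- a normal 2-subgroup fixes the points of an orbit of odd length -/
theorem fix_orbit {J : Type*} [Group J] [Finite J] (ψ : J →* Equiv.Perm ℕ) (p : ℕ) (S : Subgroup J)
    (hS : ∀ g, g ∈ S ↔ ψ g p = p) (hodd : ¬ 2 ∣ S.index) (K : Subgroup J) [hK : K.Normal] (h2 : IsPGroup 2 K) :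
    ∀ k ∈ K, ∀ i : J, ψ k (ψ i p) = ψ i p := by
  have : Fact (Nat.Prime 2) := ⟨Nat.prime_two⟩
  -- `K` acts on the cosets of `S`
  obtain ⟨o, ho⟩ := h2.nonempty_fixed_point_of_prime_not_dvd_card (J ⧸ S) hodd
  obtain ⟨j, rfl⟩ := QuotientGroup.mk_surjective o
  have h1 : ∀ k ∈ K, ψ k (ψ j p) = ψ j p := by
    intro k hk
    have h3 : ((k * j : J) : J ⧸ S) = ((j : J) : J ⧸ S) := ho ⟨k, hk⟩
    rw [eq_comm, QuotientGroup.eq, hS, map_mul, map_mul, map_inv, Equiv.Perm.mul_apply, Equiv.Perm.mul_apply,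
      Equiv.Perm.inv_eq_iff_eq] at h3
    exact h3
  intro k hk i
  have h3 := h1 _ (hK.conj_mem k hk (j * i⁻¹))
  have h5 : (j * i⁻¹) * k * (j * i⁻¹)⁻¹ * j = (j * i⁻¹) * (k * i) := by group
  rw [← Equiv.Perm.mul_apply, ← map_mul, h5, map_mul, Equiv.Perm.mul_apply, map_mul, Equiv.Perm.mul_apply,
    map_mul, Equiv.Perm.mul_apply] at h3
  have h6 := (ψ j).injective h3
  rw [map_inv, Equiv.Perm.inv_eq_iff_eq] at h6
  exact h6

/-- the order of an alternating group is not `n` -/
theorem not_alt {S : Type*} [Group S] [Finite S] {n : ℕ} (hn : Nat.card S = n) (h1 : 20160 < n) (h2 : ¬ 181440 ∣ n) :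
    ¬ Cfsg.IsAlternating S := by
  rintro ⟨m, hm, ⟨e⟩⟩
  have : Nontrivial (Fin m) := Fin.nontrivial_iff_two_le.2 (by omega)
  have h3 : 2 * n = m.factorial := by
    rw [← hn, Nat.card_congr e.toEquiv, two_mul_nat_card_alternatingGroup, Nat.card_perm, Nat.card_fin]
  rcases lt_or_ge m 9 with h | h
  · have h4 : m.factorial ≤ (8 : ℕ).factorial := Nat.factorial_le (by omega)
    have h5 : (8 : ℕ).factorial = 40320 := by decide
    omega
  · have h4 : (9 : ℕ).factorial ∣ m.factorial := Nat.factorial_dvd_factorial h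
    rw [← h3] at h4
    have h5 : (9 : ℕ).factorial = 2 * 181440 := by decide
    rw [h5] at h4
    exact h2 (Nat.dvd_of_mul_dvd_mul_left (by norm_num) h4)

end Cfsg.Agent.H33.RCSuz
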